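import Groth.Agent.Lib.HDU.Sheaf

/-!
# Cocycles of sections of a K-injective complex as hypercohomology classes
-/

set_option backward.isDefEq.respectTransparency false
set_option backward.isDefEq.respectTransparency.types false

universe w u

open CategoryTheory Limits Opposite HomologicalComplex

namespace GrothLib.CechTot19

open GrothLib.SheafCoh

section Boundary

variable {A : Type*} [Category A] [Abelian A] [HasDerivedCategory A]

lemma exists_boundary_of_Q_map_eq_zero {X : A} {I : CochainComplex A ℤ} [I.IsKInjective]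
    (z : X ⟶ I.X 0) (hz : z ≫ I.d 0 1 = 0)
    (h : DerivedCategory.Q.map (GrothLib.HDU.ofCycle z hz) = 0) :
    ∃ t : X ⟶ I.X (-1), t ≫ I.d (-1) 0 = z := by
  let e := DerivedCategory.quotientCompQhIso A
  have h1 := e.hom.naturality (GrothLib.HDU.ofCycle z hz)
  rw [h, comp_zero] at h1
  have h2 : (HomotopyCategory.quotient A (ComplexShape.up ℤ) ⋙ DerivedCategory.Qh).map
      (GrothLib.HDU.ofCycle z hz) = 0 := by
    rw [← cancel_mono (e.hom.app I), zero_comp]
    exact h1
  have h3 : (HomotopyCategory.quotient A (ComplexShape.up ℤ)).map (GrothLib.HDU.ofCycle z hz) =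
      (HomotopyCategory.quotient A (ComplexShape.up ℤ)).map 0 := by
    apply (CochainComplex.IsKInjective.Qh_map_bijective _ I).injective
    rw [Functor.map_zero, Functor.map_zero]
    exact h2
  have c := (HomotopyCategory.homotopyOfEq _ _ h3).comm 0
  rw [dNext_eq _ (show (ComplexShape.up ℤ).Rel 0 1 by simp),
    prevD_eq _ (show (ComplexShape.up ℤ).Rel (-1) 0 by simp), single_obj_d, zero_comp, zero_add,
    HomologicalComplex.zero_f, add_zero, GrothLib.HDU.ofCycle_f] at c
  refine ⟨(singleObjXSelf (ComplexShape.up ℤ) 0 X).inv ≫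
    (HomotopyCategory.homotopyOfEq _ _ h3).hom 0 (-1), ?_⟩
  rw [Category.assoc, ← c, Iso.inv_hom_id_assoc]

end Boundary

variable {C : Type u} [SmallCategory C] {J : GrothendieckTopology C}
  [HasDerivedCategory.{u} (Sheaf J AddCommGrpCat.{u})]
  {L : DerivedCategory (Sheaf J AddCommGrpCat.{u})}
  {I : CochainComplex (Sheaf J AddCommGrpCat.{u}) ℤ}

/-- Cocycles of sections. -/
noncomputable abbrev Cyc (I : CochainComplex (Sheaf J AddCommGrpCat.{u}) ℤ) (n : ℤ) (U : C) :
    AddSubgroup ((I.X n).obj.obj (op U)) :=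
  ((I.d n (n + 1)).hom.app (op U)).hom.ker

/-- A cocycle of sections as a morphism out of the free sheaf into the shifted complex. -/
noncomputable def zOf (I : CochainComplex (Sheaf J AddCommGrpCat.{u}) ℤ) (n : ℤ) (U : C) :
    (I.X n).obj.obj (op U) →+ (freeY J U ⟶ (I⟦n⟧).X 0) :=
  (Preadditive.rightComp _ (I.XIsoOfEq (zero_add n).symm).hom).comp
    (homFreeY (I.X n) U).symm.toAddMonoidHom

lemma zOf_d (n : ℤ) (U : C) (s : Cyc I n U) :
    zOf I n U s.1 ≫ (I⟦n⟧).d 0 1 = 0 := by
  have key : ∀ (a b : ℤ) (ha : n = a), n + 1 = b →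
      ((homFreeY (I.X n) U).symm s.1 ≫ (I.XIsoOfEq ha).hom) ≫ I.d a b = 0 := by
    rintro a b rfl rfl
    refine (homFreeY _ U).injective ?_
    rw [homFreeY_comp, XIsoOfEq_rfl, Iso.refl_hom, Category.comp_id, AddEquiv.apply_symm_apply,
      map_zero]
    exact s.2
  rw [CochainComplex.shiftFunctor_obj_d', Linear.comp_units_smul]
  refine (congrArg (fun w => n.negOnePow • w) (key (0 + n) (1 + n) (zero_add n).symm (add_comm n 1))).trans ?_
  exact smul_zero _

variable (e : DerivedCategory.Q.obj I ≅ L)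

/-- The comparison of degree-zero cocycles with hypercohomology. -/
noncomputable def toHDU (n : ℤ) (U : C) : Cyc I n U →+ CohCx.HDU L n U :=
  AddMonoidHom.mk' (fun s => GrothLib.HDU.sglIso.hom.app (freeY J U) ≫
      DerivedCategory.Q.map (GrothLib.HDU.ofCycle (zOf I n U s.1) (zOf_d n U s)) ≫
        ((DerivedCategory.Q.commShiftIso n).hom.app I ≫ e.hom⟦n⟧'))
    (fun a b => by
      have : GrothLib.HDU.ofCycle (zOf I n U (a + b).1) (zOf_d n U (a + b)) =
          GrothLib.HDU.ofCycle (zOf I n U a.1) (zOf_d n U a) +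
            GrothLib.HDU.ofCycle (zOf I n U b.1) (zOf_d n U b) := by
        refine from_single_hom_ext ?_
        rw [add_f_apply, GrothLib.HDU.ofCycle_f, GrothLib.HDU.ofCycle_f, GrothLib.HDU.ofCycle_f,
          AddSubgroup.coe_add, map_add, Preadditive.comp_add]
      rw [this, Functor.map_add, Preadditive.add_comp, Preadditive.comp_add])

lemma toHDU_apply (n : ℤ) (U : C) (s : Cyc I n U) :
    toHDU e n U s = GrothLib.HDU.sglIso.hom.app (freeY J U) ≫
      DerivedCategory.Q.map (GrothLib.HDU.ofCycle (zOf I n U s.1) (zOf_d n U s)) ≫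
        ((DerivedCategory.Q.commShiftIso n).hom.app I ≫ e.hom⟦n⟧') := rfl

lemma toHDU_res (n : ℤ) {U V : C} (f : V ⟶ U) (s : Cyc I n U) (s' : Cyc I n V)
    (h : ((I.X n).obj.map f.op).hom s.1 = s'.1) :
    CohCx.HDUres L n f (toHDU e n U s) = toHDU e n V s' := by
  have hz : freeYMap J f ≫ zOf I n U s.1 = zOf I n V s'.1 := by
    change freeYMap J f ≫ (homFreeY _ U).symm s.1 ≫ _ = (homFreeY _ V).symm s'.1 ≫ _
    rw [← Category.assoc]
    congr 1
    refine (homFreeY _ V).injective ?_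
    rw [homFreeY_map, AddEquiv.apply_symm_apply, AddEquiv.apply_symm_apply]
    exact h
  have hc : (single _ (ComplexShape.up ℤ) 0).map (freeYMap J f) ≫
      GrothLib.HDU.ofCycle (zOf I n U s.1) (zOf_d n U s) =
        GrothLib.HDU.ofCycle (zOf I n V s'.1) (zOf_d n V s') := by
    rw [GrothLib.HDU.comp_ofCycle]
    congr 1
  rw [toHDU_apply, toHDU_apply, ← hc, Functor.map_comp, Category.assoc]
  exact (Category.assoc _ _ _).symm.trans ((congrArg (fun a => a ≫ _)
    (GrothLib.HDU.sglIso.hom.naturality (freeYMap J f))).trans (Category.assoc _ _ _))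

variable [I.IsKInjective]

theorem toHDU_surjective (n : ℤ) (U : C) : Function.Surjective (toHDU e n U) := by
  intro g
  let c := (DerivedCategory.Q.commShiftIso n).app I ≪≫
    (shiftFunctor (DerivedCategory (Sheaf J AddCommGrpCat.{u})) n).mapIso e
  obtain ⟨z, hz, hg⟩ := GrothLib.HDU.exists_ofCycle_Q
    (GrothLib.HDU.sglIso.inv.app (freeY J U) ≫ g ≫ c.inv)
  let s := homFreeY (I.X n) U (z ≫ (I.XIsoOfEq (zero_add n).symm).inv)
  have hs : zOf I n U s = z := by
    change (homFreeY _ U).symm (homFreeY _ U _) ≫ _ = z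
    rw [AddEquiv.symm_apply_apply, Category.assoc, Iso.inv_hom_id, Category.comp_id]
  have hs' : ((I.d n (n + 1)).hom.app (op U)).hom s = 0 := by
    have key : ∀ (a b : ℤ) (ha : n = a), n + 1 = b → ∀ z : freeY J U ⟶ I.X a, z ≫ I.d a b = 0 →
        (z ≫ (I.XIsoOfEq ha).inv) ≫ I.d n (n + 1) = 0 := by
      rintro a b rfl rfl z h
      simpa using h
    rw [CochainComplex.shiftFunctor_obj_d', Linear.comp_units_smul, smul_eq_zero_iff_eq] at hz
    rw [← homFreeY_comp, key _ (1 + n) _ (add_comm n 1) z hz, map_zero]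
  refine ⟨⟨s, hs'⟩, ?_⟩
  have : GrothLib.HDU.ofCycle (zOf I n U s) (zOf_d n U ⟨s, hs'⟩) = GrothLib.HDU.ofCycle z hz := by
    congr 1
  rw [toHDU_apply, this, ← hg]
  simp [c]

theorem toHDU_eq_zero_iff (n : ℤ) (U : C) (s : Cyc I n U) :
    toHDU e n U s = 0 ↔ ∃ t, ((I.d (n - 1) n).hom.app (op U)).hom t = s.1 := by
  have hiso : IsIso ((DerivedCategory.Q.commShiftIso n).hom.app I ≫ e.hom⟦n⟧') := inferInstance
  rw [toHDU_apply, Preadditive.IsIso.comp_left_eq_zero, Preadditive.IsIso.comp_right_eq_zero]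
  have key : ∀ (a b : ℤ) (hb : n = b), n - 1 = a → ∀ (z : freeY J U ⟶ I.X a),
      z ≫ I.d a b = (homFreeY (I.X n) U).symm s.1 ≫ (I.XIsoOfEq hb).hom →
      ∃ t, ((I.d (n - 1) n).hom.app (op U)).hom t = s.1 := by
    rintro a b rfl rfl z h
    refine ⟨homFreeY _ U z, ?_⟩
    rw [← homFreeY_comp, h]
    simp
  constructor
  · intro h
    obtain ⟨t, ht⟩ := exists_boundary_of_Q_map_eq_zero _ _ h
    rw [CochainComplex.shiftFunctor_obj_d', Linear.comp_units_smul] at ht
    refine key _ _ (zero_add n).symm (by change n - 1 = (-1 : ℤ) + n; omega) (n.negOnePow • t) ?_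
    rw [Linear.units_smul_comp]
    exact ht
  · rintro ⟨t, ht⟩
    have key' : ∀ (a b : ℤ) (hb : n = b) (ha : n - 1 = a),
        ((homFreeY (I.X (n - 1)) U).symm t ≫ (I.XIsoOfEq ha).hom) ≫ I.d a b =
          (homFreeY (I.X n) U).symm s.1 ≫ (I.XIsoOfEq hb).hom := by
      rintro a b rfl rfl
      refine (homFreeY _ U).injective ?_
      simp only [XIsoOfEq_rfl, Iso.refl_hom, Category.comp_id, AddEquiv.apply_symm_apply]
      rw [homFreeY_comp, AddEquiv.apply_symm_apply, ht]
    have k := key' ((-1 : ℤ) + n) (0 + n) (zero_add n).symm (by omega)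
    let t' : freeY J U ⟶ (I⟦n⟧).X (-1) :=
      n.negOnePow • ((homFreeY (I.X (n - 1)) U).symm t ≫
        (I.XIsoOfEq (by omega : n - 1 = (-1 : ℤ) + n)).hom)
    have h0 : zOf I n U s.1 = t' ≫ (I⟦n⟧).d (-1) 0 := by
      rw [CochainComplex.shiftFunctor_obj_d', Linear.comp_units_smul]
      refine Eq.trans ?_ (congrArg (fun a => n.negOnePow • a) (Linear.units_smul_comp _ _ _)).symm
      rw [smul_smul, Int.units_mul_self, one_smul]
      exact k.symm
    have : GrothLib.HDU.ofCycle (zOf I n U s.1) (zOf_d n U s) =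
        GrothLib.HDU.ofCycle (t' ≫ (I⟦n⟧).d (-1) 0) (by simp) := by congr 1
    rw [this, GrothLib.HDU.Q_map_ofCycle_boundary]

end GrothLib.CechTot19
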