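import Groth.Agent.Lib.CechTot19.Fil
import Groth.Agent.Lib.CechTot19.HDU
import Groth.Agent.Lib.Cech.Opens
import Groth.Prelude.Def_CohB1

/-!
# The double complex of Cech cochains of a complex of injective sheaves on a space
-/

set_option backward.isDefEq.respectTransparency false
set_option backward.isDefEq.respectTransparency.types false

universe u

open CategoryTheory Limits Opposite TopologicalSpace HomologicalComplex

namespace GrothLib.CechTot19

open GrothLib.Cech

section Cls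

variable (M : CochainComplex AddCommGrpCat.{u} ℕ) (p : ℕ)

/-- Cocycles of a complex of abelian groups indexed by `ℕ`. -/
abbrev cocycles : AddSubgroup (M.X p) := (M.d p (p + 1)).hom.ker

/-- The inclusion of the cocycles. -/
noncomputable def cocyclesι : AddCommGrpCat.of (cocycles M p) ⟶ M.X p :=
  AddCommGrpCat.ofHom (cocycles M p).subtype

/-- Cocycles as cycles. -/
noncomputable def toCyc : AddCommGrpCat.of (cocycles M p) ⟶ M.cycles p :=
  M.liftCycles (cocyclesι M p) (p + 1) (by simp) (by ext x; exact x.2)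

/-- The class of a cocycle. -/
noncomputable def clsHom : cocycles M p →+ M.homology p := (toCyc M p ≫ M.homologyπ p).hom

lemma iCycles_toCyc (x : cocycles M p) : (M.iCycles p).hom ((toCyc M p).hom x) = x.1 :=
  ConcreteCategory.congr_hom (M.liftCycles_i (cocyclesι M p) (p + 1) (by simp)
    (by ext x; exact x.2)) x

lemma clsHom_zero_imp (x : cocycles M 0) (h : clsHom M 0 x = 0) : x.1 = 0 := by
  have : IsIso (M.homologyπ 0) := M.isIso_homologyπ 0 0 (by simp) (by simp)
  have h' : (toCyc M 0).hom x = 0 :=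
    (ConcreteCategory.bijective_of_isIso (M.homologyπ 0)).1 (h.trans (map_zero _).symm)
  rw [← iCycles_toCyc M 0 x, h', map_zero]

lemma clsHom_succ_imp (x : cocycles M (p + 1)) (h : clsHom M (p + 1) x = 0) :
    ∃ y, (M.d p (p + 1)).hom y = x.1 := by
  have hex : (ShortComplex.mk (M.toCycles p (p + 1)) (M.homologyπ (p + 1))
      (M.toCycles_comp_homologyπ p (p + 1))).Exact :=
    ShortComplex.exact_of_g_is_cokernel _
      (M.homologyIsCokernel p (p + 1) ((ComplexShape.up ℕ).prev_eq' rfl))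
  obtain ⟨y, hy⟩ := (ShortComplex.ab_exact_iff _).1 hex ((toCyc M (p + 1)).hom x) h
  exact ⟨y, (ConcreteCategory.congr_hom (M.toCycles_i p (p + 1)) y).symm.trans
    ((congrArg (M.iCycles (p + 1)).hom hy).trans (iCycles_toCyc M (p + 1) x))⟩

end Cls

variable {X : TopCat.{u}} {ι : Type u} (U : ι → Opens X)

/-- The site of opens. -/
local notation "𝒥" => Opens.grothendieckTopology X

/-- The Cech complex of a sheaf on opens. -/
noncomputable abbrev cF : CohTop.Ab X ⥤ CochainComplex AddCommGrpCat.{u} ℕ :=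
  cxFun (𝟭 (Opens X)) U 𝒥

lemma cF_map_add {F G : CohTop.Ab X} (g : F ⟶ G) (p : ℕ) (x : ((cF U).obj F).X p)
    (a : Fin (p + 1) → ι) :
    evS (𝟭 (Opens X)) U G a (((cF U).map g).f p x) = g.hom.app (op (obj U a)) (evS (𝟭 (Opens X)) U F a x) :=
  ev_map (𝟭 (Opens X)) U g a x

variable (I : CochainComplex (CohTop.Ab X) ℤ)

/-- The column of Cech degree `p`. -/
noncomputable def col (p : ℕ) : CochainComplex AddCommGrpCat.{u} ℤ where
  X q := ((cF U).obj (I.X q)).X p
  d i j := ((cF U).map (I.d i j)).f p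
  shape i j h := by
    ext x
    refine extS (𝟭 (Opens X)) U fun a => ?_
    change evS _ U _ a (((cF U).map (I.d i j)).f p x) = evS _ U _ a 0
    rw [cF_map_add, I.shape i j h, map_zero]
    rfl
  d_comp_d' i j k _ _ := by
    ext x
    refine extS (𝟭 (Opens X)) U fun a => ?_
    change evS _ U _ a (((cF U).map (I.d j k)).f p (((cF U).map (I.d i j)).f p x)) = evS _ U _ a 0
    rw [cF_map_add, cF_map_add, map_zero]
    exact ConcreteCategory.congr_hom
      (congrArg (fun φ => φ.hom.app (op (obj U a))) (I.d_comp_d i j k)) _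

/-- The horizontal differential. -/
noncomputable def hor (p : ℕ) : col U I p ⟶ col U I (p + 1) where
  f q := ((cF U).obj (I.X q)).d p (p + 1)
  comm' i j _ := (((cF U).map (I.d i j)).comm p (p + 1)).symm

lemma hor_hor (p : ℕ) : hor U I p ≫ hor U I (p + 1) = 0 := by
  apply HomologicalComplex.hom_ext
  intro q
  exact ((cF U).obj (I.X q)).d_comp_d p (p + 1) (p + 1 + 1)

/-- The complex of global sections. -/
noncomputable abbrev glob : CochainComplex AddCommGrpCat.{u} ℤ :=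
  (CohCx.sectCx 𝒥 (⊤ : Opens X)).obj I

/-- The inclusion of the members of the family. -/
abbrev inc (i : ι) : (𝟭 (Opens X)).obj (U i) ⟶ (⊤ : Opens X) := homOfLE le_top

/-- The augmentation. -/
noncomputable def eps : glob I ⟶ col U I 0 where
  f q := Cech.aug (𝟭 (Opens X)) U (inc U) (I.X q)
  comm' i j _ := by
    refine AddCommGrpCat.ext fun t => extS (𝟭 (Opens X)) U fun a => ?_
    change evS _ U _ a (((cF U).map (I.d i j)).f 0 (Cech.aug (𝟭 (Opens X)) U (inc U) (I.X i) t)) =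
      evS _ U _ a (Cech.aug (𝟭 (Opens X)) U (inc U) (I.X j) ((I.d i j).hom.app (op ⊤) t))
    rw [cF_map_add, ev_aug, ev_aug]
    exact ConcreteCategory.congr_hom ((I.d i j).hom.naturality _) t

lemma eps_hor : eps U I ≫ hor U I 0 = 0 := by
  apply HomologicalComplex.hom_ext
  intro q
  exact Cech.aug_d (𝟭 (Opens X)) U (inc U) (fun _ _ _ _ _ => Subsingleton.elim _ _) (I.X q)

lemma hor_exact [∀ q, Injective (I.X q)] (p : ℕ) (q : ℤ) (x : (col U I (p + 1)).X q)
    (hx : dh (hor U I) (p + 1) q x = 0) : ∃ y, dh (hor U I) p q y = x := by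
  have h : IsZero (((cF U).obj (I.X q)).homology (p + 1)) := isZero_cechH_injective U (I.X q) p
  rw [← exactAt_iff_isZero_homology, exactAt_iff' _ p (p + 1) (p + 1 + 1) (by simp) (by simp),
    ShortComplex.ab_exact_iff] at h
  exact h x hx

section Cover

variable (hcov : iSup U = ⊤)
include hcov

lemma isIso_liftCycles_aug (F : CohTop.Ab X) :
    IsIso (((cF U).obj F).liftCycles (Cech.aug (𝟭 (Opens X)) U (inc U) F) 1 (by simp)
      (Cech.aug_d (𝟭 (Opens X)) U (inc U) (fun _ _ _ _ _ => Subsingleton.elim _ _) F)) := by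
  have hc : Sieve.ofArrows (fun i => (𝟭 (Opens X)).obj (U i)) (inc U) ∈ (𝒥) (⊤ : Opens X) := by
    intro x hx
    rw [← hcov] at hx
    obtain ⟨i, hi⟩ := Opens.mem_iSup.1 hx
    exact ⟨U i, homOfLE le_top, ⟨U i, 𝟙 _, homOfLE le_top, ⟨i⟩, Category.id_comp _⟩, hi⟩
  have h : IsIso (augH (𝟭 (Opens X)) U (inc U) (fun _ _ _ _ _ => Subsingleton.elim _ _) F) :=
    isIso_augH (T := (⊤ : Opens X)) (𝟭 (Opens X)) U (inc U) _ hc
      (fun Z i k g₁ g₂ _ => ⟨Z, g₁, g₂, 𝟙 Z, Subsingleton.elim _ _, Subsingleton.elim _ _⟩) F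
  have : IsIso (((cF U).obj F).homologyπ 0) :=
    ((cF U).obj F).isIso_homologyπ 0 0 (by simp) (by simp)
  rw [augH] at h
  exact IsIso.of_isIso_comp_right _ (((cF U).obj F).homologyπ 0)

lemma eps_injective (q : ℤ) : Function.Injective ((eps U I).f q).hom := by
  have h := isIso_liftCycles_aug U hcov (I.X q)
  intro t t' htt
  apply (ConcreteCategory.bijective_of_isIso (((cF U).obj (I.X q)).liftCycles _ 1 _
    (Cech.aug_d (𝟭 (Opens X)) U (inc U) (fun _ _ _ _ _ => Subsingleton.elim _ _) (I.X q)))).1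
  apply (AddCommGrpCat.mono_iff_injective (((cF U).obj (I.X q)).iCycles 0)).1 inferInstance
  refine (ConcreteCategory.congr_hom (liftCycles_i _ _ _ _ _) t).trans (Eq.trans ?_
    (ConcreteCategory.congr_hom (liftCycles_i _ _ _ _ _) t').symm)
  exact htt

lemma eps_exact (q : ℤ) (x : (col U I 0).X q) (hx : dh (hor U I) 0 q x = 0) :
    ∃ t, ((eps U I).f q).hom t = x := by
  have h := isIso_liftCycles_aug U hcov (I.X q)
  obtain ⟨t, ht⟩ := (ConcreteCategory.bijective_of_isIso (((cF U).obj (I.X q)).liftCycles _ 1 _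
    (Cech.aug_d (𝟭 (Opens X)) U (inc U) (fun _ _ _ _ _ => Subsingleton.elim _ _) (I.X q)))).2
      ((toCyc ((cF U).obj (I.X q)) 0).hom ⟨x, hx⟩)
  have h2 : (((cF U).obj (I.X q)).iCycles 0).hom
      ((toCyc ((cF U).obj (I.X q)) 0).hom ⟨x, hx⟩) = x :=
    iCycles_toCyc ((cF U).obj (I.X q)) 0 ⟨x, hx⟩
  exact ⟨t, ((ConcreteCategory.congr_hom (liftCycles_i _ _ _ _ _) t).symm.trans
    (congrArg (((cF U).obj (I.X q)).iCycles 0).hom ht)).trans h2⟩

end Cover

variable [HasDerivedCategory.{u} (CohTop.Ab X)] [I.IsKInjective]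
  {L : DerivedCategory (CohTop.Ab X)} (e : DerivedCategory.Q.obj I ≅ L)

omit [HasDerivedCategory.{u} (CohTop.Ab X)] [I.IsKInjective] in
lemma ev_mem_Cyc {p : ℕ} {q : ℤ} {v : (col U I p).X q}
    (hv : dv (col U I) p q (q + 1) v = 0) (a : Fin (p + 1) → ι) :
    evS (𝟭 (Opens X)) U (I.X q) a v ∈ Cyc I q (obj U a) :=
  (cF_map_add U (I.d q (q + 1)) p v a).symm.trans
    ((congrArg (evS (𝟭 (Opens X)) U _ a) hv).trans (map_zero _))

/-- The Cech cochain of classes of a vertically closed cochain. -/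
noncomputable def classes (p : ℕ) (q : ℤ) :
    (dv (col U I) p q (q + 1)).ker →+ (cx U (CohCx.HDUPresheaf L q)).X p :=
  AddMonoidHom.mk' (fun v => mk U (CohCx.HDUPresheaf L q) fun a =>
      toHDU e q (obj U a) ⟨evS (𝟭 (Opens X)) U (I.X q) a v.1, ev_mem_Cyc U I v.2 a⟩)
    (fun v w => Cech.ext U _ fun a => by
      rw [map_add, ev_mk, ev_mk, ev_mk]
      refine Eq.trans (congrArg (toHDU e q (obj U a)) (Subtype.ext ?_)) (map_add _ _ _)
      exact map_add _ v.1 w.1)

lemma ev_classes (p : ℕ) (q : ℤ) (v : (dv (col U I) p q (q + 1)).ker) (a : Fin (p + 1) → ι) :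
    ev U (CohCx.HDUPresheaf L q) a (classes U I e p q v) =
      toHDU e q (obj U a) ⟨evS (𝟭 (Opens X)) U (I.X q) a v.1, ev_mem_Cyc U I v.2 a⟩ :=
  ev_mk U _ _ a

lemma dh_mem_ker {p : ℕ} {q : ℤ} (v : (dv (col U I) p q (q + 1)).ker) :
    dh (hor U I) p q v.1 ∈ (dv (col U I) (p + 1) q (q + 1)).ker :=
  ((dh_dv (hor U I) p q (q + 1) v.1).symm.trans ((congrArg _ v.2).trans (map_zero _)) :)

lemma d_classes (p : ℕ) (q : ℤ) (v : (dv (col U I) p q (q + 1)).ker) :
    (cx U (CohCx.HDUPresheaf L q)).d p (p + 1) (classes U I e p q v) =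
      classes U I e (p + 1) q ⟨dh (hor U I) p q v.1, dh_mem_ker U I v⟩ := by
  refine Cech.ext U _ fun a => ?_
  rw [ev_d, ev_classes]
  let g (k : Fin (p + 2)) : Cyc I q (obj U a) :=
    ⟨((I.X q).obj.map (proj U a k).op).hom
        (evS (𝟭 (Opens X)) U (I.X q) (fun l => a (k.succAbove l)) v.1), by
      change ((I.d q (q + 1)).hom.app _).hom _ = 0
      rw [← ConcreteCategory.comp_apply, (I.d q (q + 1)).hom.naturality, ConcreteCategory.comp_apply]
      exact (congrArg _ (ev_mem_Cyc U I v.2 _)).trans (map_zero _)⟩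
  have hsum : (⟨evS (𝟭 (Opens X)) U (I.X q) a (dh (hor U I) p q v.1),
      ev_mem_Cyc U I (dh_mem_ker U I v) a⟩ : Cyc I q (obj U a)) =
        ∑ k : Fin (p + 2), (-1 : ℤ) ^ (k : ℕ) • g k := by
    apply Subtype.ext
    rw [AddSubgroup.val_finsetSum]
    exact evS_d (𝟭 (Opens X)) U (I.X q) a v.1
  rw [hsum, map_sum]
  refine Finset.sum_congr rfl fun k _ => ?_
  rw [map_zsmul, ev_classes]
  exact congrArg _ (toHDU_res e q (proj U a k) _ (g k) rfl)

lemma d_classes_eq_zero {p : ℕ} {q : ℤ} (v : S (hor U I) p q) :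
    classes U I e p q ⟨v.1, v.2.1⟩ ∈ cocycles (cx U (CohCx.HDUPresheaf L q)) p := by
  change (cx U (CohCx.HDUPresheaf L q)).d p (p + 1) _ = 0
  rw [d_classes]
  refine Cech.ext U _ fun a => ?_
  rw [ev_classes, map_zero]
  obtain ⟨w, hw⟩ := v.2.2
  refine (toHDU_eq_zero_iff e q _ _).2 ⟨evS (𝟭 (Opens X)) U (I.X (q - 1)) a w, ?_⟩
  exact (cF_map_add U (I.d (q - 1) q) (p + 1) w a).symm.trans
    (congrArg (evS (𝟭 (Opens X)) U _ a) hw)

/-- Representatives of second-page classes as cocycles of the presheaf complex. -/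
noncomputable def toCocycle (p : ℕ) (q : ℤ) :
    S (hor U I) p q →+ cocycles (cx U (CohCx.HDUPresheaf L q)) p :=
  ((classes U I e p q).comp (AddSubgroup.inclusion (inf_le_left : S (hor U I) p q ≤ _))).codRestrict
    (cocycles (cx U (CohCx.HDUPresheaf L q)) p) fun v => d_classes_eq_zero U I e v

/-- The class in Cech cohomology of the hypercohomology presheaf. -/
noncomputable def toE (p : ℕ) (q : ℤ) :
    S (hor U I) p q →+ CohB1.cechHTop U (CohCx.HDUPresheaf L q) p :=
  (clsHom (cx U (CohCx.HDUPresheaf L q)) p).comp (toCocycle U I e p q)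

/-- Closed cochains with zero classes are vertical coboundaries. -/
lemma exists_of_classes_eq_zero {p : ℕ} {q : ℤ} (v : (dv (col U I) p q (q + 1)).ker)
    (h : classes U I e p q v = 0) : ∃ w, v.1 = dv (col U I) p (q - 1) q w := by
  have : ∀ a, ∃ t, ((I.d (q - 1) q).hom.app (op (obj U a))).hom t =
      evS (𝟭 (Opens X)) U (I.X q) a v.1 := fun a => by
    refine (toHDU_eq_zero_iff e q _ ⟨_, ev_mem_Cyc U I v.2 a⟩).1 ?_
    rw [← ev_classes, h, map_zero]
  choose t ht using this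
  refine ⟨mkS (𝟭 (Opens X)) U (I.X (q - 1)) t, extS (𝟭 (Opens X)) U fun a => ?_⟩
  refine Eq.trans ?_ (cF_map_add U (I.d (q - 1) q) p _ a).symm
  rw [evS_mkS]
  exact (ht a).symm

lemma toE_zero (q : ℤ) (v : S (hor U I) 0 q) (h : toE U I e 0 q v = 0) :
    ∃ w, v.1 = dv (col U I) 0 (q - 1) q w :=
  exists_of_classes_eq_zero U I e ⟨v.1, v.2.1⟩ (clsHom_zero_imp _ _ h)

lemma toE_succ (p : ℕ) (q : ℤ) (v : S (hor U I) (p + 1) q) (h : toE U I e (p + 1) q v = 0) :
    ∃ z w, dv (col U I) p q (q + 1) z = 0 ∧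
      v.1 = dh (hor U I) p q z + dv (col U I) (p + 1) (q - 1) q w := by
  obtain ⟨y, hy⟩ := clsHom_succ_imp _ p _ h
  choose c hc using fun a => toHDU_surjective e q (obj U a) (ev U (CohCx.HDUPresheaf L q) a y)
  let z : (col U I p).X q := mkS (𝟭 (Opens X)) U (I.X q) fun a => (c a).1
  have hz : dv (col U I) p q (q + 1) z = 0 := by
    refine extS (𝟭 (Opens X)) U fun a => ?_
    refine (cF_map_add U (I.d q (q + 1)) p z a).trans ?_
    rw [evS_mkS, map_zero]
    exact (c a).2
  have hzy : classes U I e p q ⟨z, hz⟩ = y := Cech.ext U _ fun a => by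
    rw [ev_classes, ← hc a]
    congr 2
    exact evS_mkS _ U _ _ a
  have h0 : classes U I e (p + 1) q
      (⟨v.1, v.2.1⟩ - ⟨dh (hor U I) p q z, dh_mem_ker U I ⟨z, hz⟩⟩) = 0 := by
    rw [map_sub, ← d_classes U I e p q ⟨z, hz⟩, hzy, sub_eq_zero]
    exact hy.symm
  obtain ⟨w, hw⟩ := exists_of_classes_eq_zero U I e _ h0
  exact ⟨z, w, hz, eq_add_of_sub_eq' hw⟩

/-- Restriction of a global cocycle is a coboundary on each member of the family iff its image
in degree zero is a vertical coboundary. -/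
lemma res_iff (n : ℤ) (s : Cyc I n (⊤ : Opens X)) :
    (∃ w, ((eps U I).f n).hom s.1 = dv (col U I) 0 (n - 1) n w) ↔
      ∀ i, CohCx.HDUres L n (homOfLE le_top : U i ⟶ (⊤ : Opens X)) (toHDU e n ⊤ s) = 0 := by
  have hres : ∀ (V : Opens X) (g : V ⟶ (⊤ : Opens X)),
      CohCx.HDUres L n g (toHDU e n ⊤ s) = 0 ↔
        ∃ t, ((I.d (n - 1) n).hom.app (op V)).hom t = ((I.X n).obj.map g.op).hom s.1 := by
    intro V g
    have hmem : ((I.X n).obj.map g.op).hom s.1 ∈ Cyc I n V := by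
      change ((I.d n (n + 1)).hom.app _).hom _ = 0
      rw [← ConcreteCategory.comp_apply, (I.d n (n + 1)).hom.naturality, ConcreteCategory.comp_apply]
      exact (congrArg _ s.2).trans (map_zero _)
    rw [toHDU_res e n g s ⟨_, hmem⟩ rfl]
    exact toHDU_eq_zero_iff e n V ⟨_, hmem⟩
  have hrestr : ∀ (V W : Opens X) (f : W ⟶ V) (g : V ⟶ (⊤ : Opens X)),
      (∃ t, ((I.d (n - 1) n).hom.app (op V)).hom t = ((I.X n).obj.map g.op).hom s.1) →
      ∃ t, ((I.d (n - 1) n).hom.app (op W)).hom t = ((I.X n).obj.map (f ≫ g).op).hom s.1 := by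
    rintro V W f g ⟨t, ht⟩
    refine ⟨((I.X (n - 1)).obj.map f.op).hom t, ?_⟩
    rw [← ConcreteCategory.comp_apply, (I.d (n - 1) n).hom.naturality, ConcreteCategory.comp_apply]
    refine (congrArg _ ht).trans ?_
    rw [op_comp, Functor.map_comp]
    rfl
  constructor
  · rintro ⟨w, hw⟩ i
    rw [hres]
    have h1 : ∃ t, ((I.d (n - 1) n).hom.app (op (obj U fun _ : Fin (0 + 1) => i))).hom t =
        ((I.X n).obj.map (Pi.π (fun _ : Fin (0 + 1) => U i) 0 ≫ inc U i).op).hom s.1 :=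
      ⟨evS (𝟭 (Opens X)) U (I.X (n - 1)) (fun _ => i) w,
        (cF_map_add U (I.d (n - 1) n) 0 w _).symm.trans
          ((congrArg (evS (𝟭 (Opens X)) U _ fun _ => i) hw.symm).trans (ev_aug _ U _ _ _ _))⟩
    have h2 := hrestr _ (U i) (Pi.lift fun _ => 𝟙 (U i)) _ h1
    rwa [Subsingleton.elim (Pi.lift _ ≫ _ ≫ inc U i) (homOfLE le_top : U i ⟶ (⊤ : Opens X))] at h2
  · intro h
    choose t ht using fun a : Fin (0 + 1) → ι =>
      hrestr (U (a 0)) (obj U a) (Pi.π (fun k => U (a k)) 0) (inc U (a 0)) ((hres _ _).1 (h (a 0)))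
    refine ⟨mkS (𝟭 (Opens X)) U (I.X (n - 1)) t, extS (𝟭 (Opens X)) U fun a => ?_⟩
    refine Eq.trans ?_ (cF_map_add U (I.d (n - 1) n) 0 _ a).symm
    rw [evS_mkS]
    exact (ev_aug _ U _ _ _ _).trans (ht a).symm

end GrothLib.CechTot19
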