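import Mathlib.Algebra.Homology.HomologicalComplex
import Mathlib.Algebra.Category.Grp.Abelian
import Mathlib.Algebra.Category.Grp.Preadditive
import Groth.Prelude.Def_HTor

/-!
# Elementwise double complexes with exact rows

`K p` is a column, `f p : K p ⟶ K (p + 1)` the horizontal maps.  A cochain is a family
`∀ p q, (K p).X q`, the total degree is recorded by `Fil p n`.
-/

universe u

open CategoryTheory

namespace GrothLib.CechTot19

variable (K : ℕ → CochainComplex AddCommGrpCat.{u} ℤ) (f : ∀ p, K p ⟶ K (p + 1))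

/-- Cochains of all degrees. -/
abbrev T : Type u := ∀ (p : ℕ) (q : ℤ), (K p).X q

variable {K}

/-- The horizontal differential, as a map of groups. -/
noncomputable abbrev dh (p : ℕ) (q : ℤ) : (K p).X q →+ (K (p + 1)).X q := ((f p).f q).hom

variable (K) in
/-- The vertical differential, as a map of groups. -/
noncomputable abbrev dv (p : ℕ) (i j : ℤ) : (K p).X i →+ (K p).X j := ((K p).d i j).hom

lemma dh_dv (p : ℕ) (i j : ℤ) (x : (K p).X i) :
    dh f p j (dv K p i j x) = dv K (p + 1) i j (dh f p i x) :=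
  (ConcreteCategory.congr_hom ((f p).comm i j) x).symm

lemma dv_dv (p : ℕ) (i j k : ℤ) (x : (K p).X i) : dv K p j k (dv K p i j x) = 0 :=
  ConcreteCategory.congr_hom ((K p).d_comp_d i j k) x

/-- The total differential. -/
noncomputable def D : T K →+ T K where
  toFun x
    | 0, q => dv K 0 (q - 1) q (x 0 (q - 1))
    | p + 1, q => dh f p q (x p q) + (-1 : ℤ) ^ (p + 1) • dv K (p + 1) (q - 1) q (x (p + 1) (q - 1))
  map_zero' := by
    funext p q
    cases p with
    | zero => exact map_zero _
    | succ p => simp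
  map_add' x y := by
    funext p q
    cases p with
    | zero => exact map_add _ _ _
    | succ p => simp only [Pi.add_apply, map_add, smul_add]; abel

lemma D_zero_apply (x : T K) (q : ℤ) : D f x 0 q = dv K 0 (q - 1) q (x 0 (q - 1)) := rfl

lemma D_succ_apply (x : T K) (p : ℕ) (q : ℤ) :
    D f x (p + 1) q =
      dh f p q (x p q) + (-1 : ℤ) ^ (p + 1) • dv K (p + 1) (q - 1) q (x (p + 1) (q - 1)) := rfl

variable (K) in
/-- Cochains of total degree `n` in filtration `≥ p`. -/
def Fil (p : ℕ) (n : ℤ) : AddSubgroup (T K) where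
  carrier := {x | ∀ (i : ℕ) (j : ℤ), (i < p ∨ (i : ℤ) + j ≠ n) → x i j = 0}
  zero_mem' := fun _ _ _ => rfl
  add_mem' := fun {x y} hx hy i j h => by simp [hx i j h, hy i j h]
  neg_mem' := fun {x} hx i j h => by simp [hx i j h]

lemma fil_antitone {p p' : ℕ} (h : p ≤ p') (n : ℤ) : Fil K p' n ≤ Fil K p n :=
  fun x hx i j hij => hx i j (hij.imp (fun hi => hi.trans_le h) id)

lemma D_mem {p : ℕ} {n : ℤ} {x : T K} (hx : x ∈ Fil K p n) : D f x ∈ Fil K p (n + 1) := by
  intro i j hij
  cases i with
  | zero => rw [D_zero_apply, hx 0 (j - 1) (hij.imp id (fun h => by omega)), map_zero]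
  | succ i =>
    rw [D_succ_apply, hx i j (hij.imp (fun h => by omega) (fun h => by omega)),
      hx (i + 1) (j - 1) (hij.imp id (fun h => by omega))]
    simp

lemma D_D (hff : ∀ p, f p ≫ f (p + 1) = 0) (x : T K) : D f (D f x) = 0 := by
  have hdh : ∀ (p : ℕ) (q : ℤ) (v : (K p).X q), dh f (p + 1) q (dh f p q v) = 0 := fun p q v =>
    ConcreteCategory.congr_hom (congrArg (fun φ => HomologicalComplex.Hom.f φ q) (hff p)) v
  funext p q
  match p with
  | 0 => exact dv_dv 0 _ _ _ _
  | 1 =>
    rw [D_succ_apply, D_succ_apply, D_zero_apply, map_add, map_zsmul, dv_dv, dh_dv]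
    simp
  | p + 2 =>
    rw [D_succ_apply, D_succ_apply f x (p + 1), D_succ_apply f x p]
    simp only [map_add, map_zsmul, dv_dv, dh_dv, hdh, smul_zero, add_zero, zero_add]
    simp only [pow_succ, mul_neg, mul_one, neg_smul, neg_neg, Pi.zero_apply]
    abel

/-- A cochain concentrated at one place. -/
noncomputable def single (p : ℕ) (q : ℤ) (v : (K p).X q) : T K :=
  Pi.single p (Pi.single q v)

lemma single_self (p : ℕ) (q : ℤ) (v : (K p).X q) : single p q v p q = v := by
  simp [single]

lemma single_other (p : ℕ) (q : ℤ) (v : (K p).X q) (i : ℕ) (j : ℤ) (h : i ≠ p ∨ j ≠ q) :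
    single p q v i j = 0 := by
  by_cases hi : i = p
  · subst hi
    simp [single, h.resolve_left (by simp)]
  · simp [single, hi]

lemma single_mem (p : ℕ) (q : ℤ) (v : (K p).X q) {p' : ℕ} (hp : p' ≤ p) {n : ℤ}
    (hn : (p : ℤ) + q = n) : single p q v ∈ Fil K p' n := by
  intro i j hij
  refine single_other p q v i j ?_
  by_contra h
  simp only [not_or, not_not] at h
  obtain ⟨rfl, rfl⟩ := h
  rcases hij with h | h
  · omega
  · exact h hn

lemma D_single_succ (p : ℕ) (q : ℤ) (v : (K p).X q) :
    D f (single p q v) (p + 1) q = dh f p q v := by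
  rw [D_succ_apply, single_self, single_other p q v (p + 1) _ (Or.inl (by omega))]
  simp

lemma D_single_high (p : ℕ) (q : ℤ) (v : (K p).X q) (i : ℕ) (j : ℤ) (hi : p + 1 < i) :
    D f (single p q v) i j = 0 := by
  obtain ⟨i, rfl⟩ := Nat.exists_eq_succ_of_ne_zero (show i ≠ 0 by omega)
  rw [D_succ_apply, single_other p q v i _ (Or.inl (by omega)),
    single_other p q v (i + 1) _ (Or.inl (by omega))]
  simp

variable {f}
variable {A : CochainComplex AddCommGrpCat.{u} ℤ} (ε : A ⟶ K 0)

/-- An element of the augmenting complex as a cochain. -/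
noncomputable def aug (n : ℤ) : A.X n →+ T K where
  toFun s := single 0 n ((ε.f n).hom s)
  map_zero' := by simp [single]
  map_add' a b := by simp [single, Pi.single_add]

lemma aug_mem (n : ℤ) (s : A.X n) : aug ε n s ∈ Fil K 0 n := single_mem 0 n _ le_rfl (by simp)

lemma D_aug (hεf : ε ≫ f 0 = 0) (n : ℤ) (s : A.X n) (hs : (A.d n (n + 1)).hom s = 0) :
    D f (aug ε n s) = 0 := by
  have hv : dv K 0 n (n + 1) ((ε.f n).hom s) = 0 :=
    (ConcreteCategory.congr_hom (ε.comm n (n + 1)) s).trans
      ((congrArg (ε.f (n + 1)).hom hs).trans (map_zero _))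
  funext p q
  match p with
  | 0 =>
    rw [D_zero_apply]
    by_cases hq : q - 1 = n
    · obtain rfl : q = n + 1 := by omega
      have key : ∀ (a : ℤ), a = n → dv K 0 a (n + 1) (aug ε n s 0 a) = 0 := by
        rintro a rfl
        exact (congrArg _ (single_self 0 a _)).trans hv
      exact key _ hq
    · exact (congrArg _ (single_other 0 n ((ε.f n).hom s) 0 _ (Or.inr hq))).trans (map_zero _)
  | 1 =>
    rw [D_succ_apply]
    have h2 : aug ε n s 1 (q - 1) = 0 := single_other 0 n ((ε.f n).hom s) 1 _ (Or.inl (by omega))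
    rw [h2, map_zero, smul_zero, add_zero]
    by_cases hq : q = n
    · subst hq
      refine (congrArg _ (single_self 0 q _)).trans ?_
      exact ConcreteCategory.congr_hom (congrArg (fun φ => HomologicalComplex.Hom.f φ q) hεf) s
    · exact (congrArg _ (single_other 0 n ((ε.f n).hom s) 0 _ (Or.inr hq))).trans (map_zero _)
  | p + 2 => exact D_single_high f 0 n ((ε.f n).hom s) _ _ (by omega) |>.trans rfl

variable (f) in
/-- Cocycles in the filtration. -/
noncomputable abbrev Z (p : ℕ) (n : ℤ) : AddSubgroup (T K) := Fil K p n ⊓ (D f).ker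

variable (f) in
/-- Coboundaries. -/
noncomputable abbrev B (n : ℤ) : AddSubgroup (T K) := (Fil K 0 (n - 1)).map (D f)

variable {a : ℤ} (hK : ∀ (p : ℕ) (q : ℤ), q < a → ∀ x : (K p).X q, x = 0)

include hK in
lemma eq_zero_high {p : ℕ} {n : ℤ} {x : T K} (hx : x ∈ Fil K p n) (i : ℕ) (j : ℤ)
    (hi : n - a < i) : x i j = 0 := by
  by_cases h : (i : ℤ) + j = n
  · exact hK i j (by omega) _
  · exact hx i j (Or.inr h)

lemma D_mem_Z (hff : ∀ p, f p ≫ f (p + 1) = 0) {p : ℕ} {n : ℤ} {y : T K}
    (hy : y ∈ Fil K p (n - 1)) : D f y ∈ Z f p n :=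
  ⟨by simpa using D_mem f hy, D_D f hff y⟩

variable (hff : ∀ p, f p ≫ f (p + 1) = 0) (hεf : ε ≫ f 0 = 0)
  (hex : ∀ (p : ℕ) (q : ℤ) (x : (K (p + 1)).X q),
    dh f (p + 1) q x = 0 → ∃ y, dh f p q y = x)
  (hex₀ : ∀ (q : ℤ) (x : (K 0).X q), dh f 0 q x = 0 → ∃ s, (ε.f q).hom s = x)
  (hinj : ∀ q : ℤ, Function.Injective (ε.f q).hom)

include hK hff hex hex₀ hinj in
/-- Every total cocycle is cohomologous to an augmentation cocycle. -/
theorem exists_aug_cohomologous {n : ℤ} {x : T K} (hx : x ∈ Z f 0 n) :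
    ∃ s, (A.d n (n + 1)).hom s = 0 ∧ x - aug ε n s ∈ B f n := by
  suffices H : ∀ (N : ℕ) (x : T K), x ∈ Z f 0 n → (∀ i j, N < i → x i j = 0) →
      ∃ s, (A.d n (n + 1)).hom s = 0 ∧ x - aug ε n s ∈ B f n from
    H (n - a).toNat x hx fun i j hi => eq_zero_high hK hx.1 i j (by omega)
  intro N
  induction N with
  | zero =>
    intro x hx hN
    have hD := hx.2
    have h1 : dh f 0 n (x 0 n) = 0 := by
      have := congrFun (congrFun hD 1) n
      rw [D_succ_apply, hN (0 + 1) (n - 1) (by omega), map_zero, smul_zero, add_zero] at this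
      exact this
    obtain ⟨s, hs⟩ := hex₀ n (x 0 n) h1
    have hx0 : x = aug ε n s := by
      funext i j
      by_cases hij : i = 0 ∧ j = n
      · obtain ⟨rfl, rfl⟩ := hij
        exact hs.symm.trans (single_self 0 j _).symm
      · have : i ≠ 0 ∨ j ≠ n := by omega
        refine Eq.trans ?_ (single_other 0 n _ i j this).symm
        rcases Nat.eq_zero_or_pos i with rfl | hi
        · exact hx.1 0 j (Or.inr (by omega))
        · exact hN i j hi
    refine ⟨s, hinj (n + 1) ?_, by rw [hx0, sub_self]; exact zero_mem _⟩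
    rw [map_zero]
    have h2 := congrFun (congrFun hD 0) (n + 1)
    rw [D_zero_apply] at h2
    have key : ∀ m : ℤ, m = n → dv K 0 m (n + 1) (x 0 m) = 0 →
        (ε.f (n + 1)).hom ((A.d n (n + 1)).hom s) = 0 := by
      rintro m rfl h
      rw [← hs] at h
      exact (ConcreteCategory.congr_hom (ε.comm m (m + 1)) s).symm.trans h
    exact key _ (by omega) h2
  | succ N ih =>
    intro x hx hN
    set q := n - (N + 1 : ℕ) with hq
    have h1 : dh f (N + 1) q (x (N + 1) q) = 0 := by
      have := congrFun (congrFun hx.2 (N + 1 + 1)) q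
      rw [D_succ_apply, hN (N + 1 + 1) (q - 1) (by omega), map_zero, smul_zero, add_zero] at this
      exact this
    obtain ⟨y, hy⟩ := hex N q _ h1
    have hmem : single N q y ∈ Fil K 0 (n - 1) := single_mem N q y (Nat.zero_le _) (by omega)
    obtain ⟨s, hs, hb⟩ := ih (x - D f (single N q y)) (sub_mem hx (D_mem_Z hff hmem))
      (fun i j hi => by
        rw [Pi.sub_apply, Pi.sub_apply]
        rcases Nat.lt_or_ge (N + 1) i with hi' | hi'
        · rw [hN i j hi', D_single_high f N q y i j hi', sub_zero]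
        · obtain rfl : i = N + 1 := by omega
          by_cases hj : j = q
          · subst hj
            rw [D_single_succ, hy, sub_self]
          · rw [hx.1 (N + 1) j (Or.inr (by omega)),
              (D_mem f hmem) (N + 1) j (Or.inr (by omega)), sub_zero])
    refine ⟨s, hs, ?_⟩
    have := add_mem hb (AddSubgroup.mem_map_of_mem (D f) hmem)
    rwa [show x - D f (single N q y) - aug ε n s + D f (single N q y) = x - aug ε n s by abel] at this

include hK hff hex hex₀ hinj in
/-- An augmentation cochain which is a total coboundary is a coboundary. -/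
theorem exists_d_of_aug_mem {n : ℤ} {s : A.X n} (hs : aug ε n s ∈ B f n) :
    ∃ t, (A.d (n - 1) n).hom t = s := by
  obtain ⟨y, hy, hDy⟩ := hs
  suffices H : ∀ (N : ℕ) (y : T K), y ∈ Fil K 0 (n - 1) → D f y = aug ε n s →
      (∀ i j, N < i → y i j = 0) → ∃ t, (A.d (n - 1) n).hom t = s from
    H (n - 1 - a).toNat y hy hDy fun i j hi => eq_zero_high hK hy i j (by omega)
  intro N
  induction N with
  | zero =>
    intro y hy hDy hN
    have h1 : dh f 0 (n - 1) (y 0 (n - 1)) = 0 := by
      have := congrFun (congrFun hDy 1) (n - 1)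
      rw [D_succ_apply, hN (0 + 1) (n - 1 - 1) (by omega), map_zero, smul_zero, add_zero] at this
      exact this.trans (single_other 0 n ((ε.f n).hom s) 1 (n - 1) (Or.inl (by omega)))
    obtain ⟨t, ht⟩ := hex₀ _ _ h1
    refine ⟨t, hinj n ?_⟩
    have h2 := congrFun (congrFun hDy 0) n
    rw [D_zero_apply, ← ht] at h2
    exact (ConcreteCategory.congr_hom (ε.comm (n - 1) n) t).symm.trans
      (h2.trans (single_self 0 n _))
  | succ N ih =>
    intro y hy hDy hN
    set q := n - 1 - (N + 1 : ℕ) with hq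
    have h1 : dh f (N + 1) q (y (N + 1) q) = 0 := by
      have := congrFun (congrFun hDy (N + 1 + 1)) q
      rw [D_succ_apply, hN (N + 1 + 1) (q - 1) (by omega), map_zero, smul_zero, add_zero] at this
      exact this.trans (single_other 0 n ((ε.f n).hom s) (N + 1 + 1) q (Or.inl (by omega)))
    obtain ⟨z, hz⟩ := hex N q _ h1
    have hmem : single N q z ∈ Fil K 0 (n - 1 - 1) := single_mem N q z (Nat.zero_le _) (by omega)
    refine ih (y - D f (single N q z)) (sub_mem hy (D_mem_Z hff hmem).1)
      (by rw [map_sub, D_D f hff, sub_zero, hDy]) (fun i j hi => ?_)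
    rw [Pi.sub_apply, Pi.sub_apply]
    rcases Nat.lt_or_ge (N + 1) i with hi' | hi'
    · rw [hN i j hi', D_single_high f N q z i j hi', sub_zero]
    · obtain rfl : i = N + 1 := by omega
      by_cases hj : j = q
      · subst hj
        rw [D_single_succ, hz, sub_self]
      · rw [hy (N + 1) j (Or.inr (by omega)),
          (D_mem_Z hff hmem).1 (N + 1) j (Or.inr (by omega)), sub_zero]

end GrothLib.CechTot19
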