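import Groth.Agent.Lib.CechTot19.DCx

/-!
# The filtration on the abutment of a double complex with exact rows
-/

universe u

open CategoryTheory

namespace GrothLib.CechTot19

variable {K : ℕ → CochainComplex AddCommGrpCat.{u} ℤ} (f : ∀ p, K p ⟶ K (p + 1))

/-- Elements at `(p, q)` representing cocycles of the second page. -/
noncomputable def S (p : ℕ) (q : ℤ) : AddSubgroup ((K p).X q) :=
  (dv K p q (q + 1)).ker ⊓ ((dv K (p + 1) (q - 1) q).range.comap (dh f p q))

variable {f}

lemma comp_mem_S {p : ℕ} {n : ℤ} {x : T K} (hx : x ∈ Z f p n) :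
    x p (n - p) ∈ S f p (n - p) := by
  refine ⟨?_, ?_⟩
  · change dv K p (n - p) (n - p + 1) (x p (n - p)) = 0
    cases p with
    | zero =>
      have h := congrFun (congrFun hx.2 0) (n + 1)
      rw [D_zero_apply] at h
      have key : ∀ m : ℤ, m + 1 = n + 1 → dv K 0 (n + 1 - 1) (n + 1) (x 0 (n + 1 - 1)) = 0 →
          dv K 0 m (m + 1) (x 0 m) = 0 := by
        intro m hm h
        obtain rfl : m = n := by omega
        have e : ∀ a : ℤ, a = m → dv K 0 a (m + 1) (x 0 a) = 0 → dv K 0 m (m + 1) (x 0 m) = 0 := by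
          rintro a rfl h; exact h
        exact e _ (by omega) h
      exact key _ (by simp) h
    | succ p =>
      have h := congrFun (congrFun hx.2 (p + 1)) (n - ↑(p + 1) + 1)
      rw [D_succ_apply, hx.1 p _ (Or.inl (by omega)), map_zero, zero_add] at h
      have e : ∀ a b : ℤ, a = b → (-1 : ℤ) ^ (p + 1) • dv K (p + 1) a (b + 1) (x (p + 1) a) = 0 →
          dv K (p + 1) b (b + 1) (x (p + 1) b) = 0 := by
        rintro a b rfl h
        have := congrArg (fun w => (-1 : ℤ) ^ (p + 1) • w) h
        simp only [smul_zero, smul_smul, ← mul_pow] at this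
        simpa using this
      exact e _ _ (by omega) h
  · change ∃ w, dv K (p + 1) (n - p - 1) (n - p) w = dh f p (n - p) (x p (n - p))
    have h := congrFun (congrFun hx.2 (p + 1)) (n - p)
    rw [D_succ_apply] at h
    refine ⟨-((-1 : ℤ) ^ (p + 1) • x (p + 1) (n - p - 1)), ?_⟩
    rw [map_neg, map_zsmul, neg_eq_iff_add_eq_zero]
    exact (add_comm _ _).trans h

variable {A : CochainComplex AddCommGrpCat.{u} ℤ} {ε : A ⟶ K 0} {a : ℤ}

theorem exists_filtration (hK : ∀ (p : ℕ) (q : ℤ), q < a → ∀ x : (K p).X q, x = 0)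
    (hff : ∀ p, f p ≫ f (p + 1) = 0) (hεf : ε ≫ f 0 = 0)
    (hex : ∀ (p : ℕ) (q : ℤ) (x : (K (p + 1)).X q),
      dh f (p + 1) q x = 0 → ∃ y, dh f p q y = x)
    (hex₀ : ∀ (q : ℤ) (x : (K 0).X q), dh f 0 q x = 0 → ∃ s, (ε.f q).hom s = x)
    (hinj : ∀ q : ℤ, Function.Injective (ε.f q).hom)
    {n : ℤ} {H : Type u} [AddCommGroup H]
    (π : (A.d n (n + 1)).hom.ker →+ H) (hπs : Function.Surjective π)
    (hπ : ∀ s, π s = 0 ↔ ∃ t, (A.d (n - 1) n).hom t = s)
    (E : ℕ → ℤ → Type u) [∀ p q, AddCommGroup (E p q)]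
    (φ : ∀ p q, S f p q →+ E p q)
    (hφ₀ : ∀ q v, φ 0 q v = 0 → ∃ w, (v : (K 0).X q) = dv K 0 (q - 1) q w)
    (hφ : ∀ p q v, φ (p + 1) q v = 0 → ∃ z w, dv K p q (q + 1) z = 0 ∧
      (v : (K (p + 1)).X q) = dh f p q z + dv K (p + 1) (q - 1) q w) :
    ∃ (N : ℕ) (G : ℕ → Submodule ℤ H),
      Antitone G ∧ G 0 = ⊤ ∧ G N = ⊥ ∧
      (∀ s, π s ∈ G 1 ↔ ∃ w, (ε.f n).hom s = dv K 0 (n - 1) n w) ∧
      ∀ p : ℕ, HTor.IsSubquotient ℤ (HTor.grDesc G p) (E p (n - p)) := by
  classical
  -- the comparison map
  let rel (x : T K) (s : (A.d n (n + 1)).hom.ker) : Prop := x - aug ε n (s : A.X n) ∈ B f n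
  have hex' : ∀ x : Z f 0 n, ∃ s, rel x s := fun x => by
    obtain ⟨s, hs, hb⟩ := exists_aug_cohomologous ε hK hff hex hex₀ hinj x.2
    exact ⟨⟨s, hs⟩, hb⟩
  have huniq : ∀ (x : T K) s s', rel x s → rel x s' → π s = π s' := by
    intro x s s' h h'
    rw [← sub_eq_zero, ← map_sub, hπ]
    refine exists_d_of_aug_mem ε hK hff hex hex₀ hinj ?_
    rw [AddSubgroup.coe_sub, map_sub]
    have := sub_mem h' h
    rwa [sub_sub_sub_cancel_left] at this
  let θ : Z f 0 n →+ H := AddMonoidHom.mk' (fun x => π (hex' x).choose) (fun x y => by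
    rw [← map_add]
    refine huniq _ _ _ (hex' (x + y)).choose_spec ?_
    have := add_mem (hex' x).choose_spec (hex' y).choose_spec
    change ((x : T K) + y) - aug ε n (((hex' x).choose : A.X n) + ((hex' y).choose : A.X n)) ∈ B f n
    rw [map_add, add_sub_add_comm]
    exact this)
  have hθ : ∀ x s, rel (x : Z f 0 n) s → θ x = π s := fun x s h =>
    huniq _ _ _ (hex' x).choose_spec h
  have hθaug : ∀ s : (A.d n (n + 1)).hom.ker,
      θ ⟨aug ε n (s : A.X n), aug_mem ε n _, D_aug ε hεf n _ s.2⟩ = π s := fun s =>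
    hθ _ s (by change _ - _ ∈ B f n; rw [sub_self]; exact zero_mem _)
  have hθ0 : ∀ x : Z f 0 n, θ x = 0 ↔ (x : T K) ∈ B f n := by
    intro x
    constructor
    · intro h
      obtain ⟨t, ht⟩ := (hπ _).1 h
      have hb : aug ε n ((hex' x).choose : A.X n) ∈ B f n := by
        refine ⟨aug ε (n - 1) t, by simpa using aug_mem ε (n - 1) t, ?_⟩
        rw [← ht]
        funext i j
        match i with
        | 0 =>
          rw [D_zero_apply]
          by_cases hj : j = n
          · subst hj
            refine (congrArg _ (single_self 0 (j - 1) _)).trans (Eq.trans ?_ (single_self 0 j _).symm)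
            exact ConcreteCategory.congr_hom (ε.comm (j - 1) j) t
          · refine (congrArg _ (single_other 0 (n - 1) ((ε.f (n - 1)).hom t) 0 _
              (Or.inr (by omega)))).trans ?_
            exact (map_zero _).trans (single_other 0 n ((ε.f n).hom _) 0 j (Or.inr hj)).symm
        | 1 =>
          refine Eq.trans ?_
            (single_other 0 n ((ε.f n).hom ((A.d (n - 1) n).hom t)) 1 j (Or.inl (by omega))).symm
          rw [D_succ_apply]
          have h2 : aug ε (n - 1) t 1 (j - 1) = 0 :=
            single_other 0 (n - 1) ((ε.f (n - 1)).hom t) 1 _ (Or.inl (by omega))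
          rw [h2, map_zero, smul_zero, add_zero]
          by_cases hj : j = n - 1
          · subst hj
            refine (congrArg _ (single_self 0 (n - 1) _)).trans ?_
            exact ConcreteCategory.congr_hom
              (congrArg (fun φ => HomologicalComplex.Hom.f φ (n - 1)) hεf) t
          · exact (congrArg _ (single_other 0 (n - 1) ((ε.f (n - 1)).hom t) 0 j (Or.inr hj))).trans
              (map_zero _)
        | i + 2 =>
          exact (D_single_high f 0 (n - 1) ((ε.f (n - 1)).hom t) _ _ (by omega)).trans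
            (single_other 0 n ((ε.f n).hom ((A.d (n - 1) n).hom t)) (i + 2) j (Or.inl (by omega))).symm
      simpa using add_mem (hex' x).choose_spec hb
    · intro h
      rw [← map_zero π]
      exact hθ x 0 (by change (x : T K) - aug ε n (0 : A.X n) ∈ B f n; simpa using h)
  let ι (p : ℕ) : Z f p n →+ Z f 0 n :=
    AddSubgroup.inclusion (inf_le_inf_right _ (fil_antitone (Nat.zero_le p) n))
  let G (p : ℕ) : Submodule ℤ H := AddSubgroup.toIntSubmodule (θ.comp (ι p)).range
  have memG : ∀ p h, h ∈ G p ↔ ∃ x : Z f p n, θ (ι p x) = h := fun p h => AddMonoidHom.mem_range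
  refine ⟨(n - a).toNat + 1, G, ?_, ?_, ?_, ?_, ?_⟩
  · intro p p' hp h hh
    obtain ⟨x, rfl⟩ := (memG p' h).1 hh
    exact (memG p _).2 ⟨⟨x, fil_antitone hp n x.2.1, x.2.2⟩, rfl⟩
  · rw [eq_top_iff]
    rintro h -
    obtain ⟨s, rfl⟩ := hπs h
    exact (memG 0 _).2 ⟨⟨_, aug_mem ε n _, D_aug ε hεf n _ s.2⟩, hθaug s⟩
  · rw [eq_bot_iff]
    intro h hh
    obtain ⟨x, rfl⟩ := (memG _ h).1 hh
    have h0 : x = 0 := Subtype.ext (funext fun i => funext fun j => by
      rcases Nat.lt_or_ge i ((n - a).toNat + 1) with hi | hi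
      · exact x.2.1 i j (Or.inl hi)
      · exact eq_zero_high hK x.2.1 i j (by omega))
    simp [h0]
  · intro s
    constructor
    · intro hs
      obtain ⟨x, hx⟩ := (memG 1 _).1 hs
      rw [← hθaug, ← sub_eq_zero, ← map_sub, hθ0] at hx
      obtain ⟨y, -, hy⟩ := hx
      refine ⟨-y 0 (n - 1), ?_⟩
      have h0 := congrFun (congrFun hy 0) n
      rw [D_zero_apply] at h0
      rw [map_neg, h0]
      change _ = -((x : T K) 0 n - aug ε n (s : A.X n) 0 n)
      rw [x.2.1 0 n (Or.inl (by omega)), zero_sub, neg_neg]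
      exact (single_self 0 n ((ε.f n).hom s.1)).symm
    · rintro ⟨w, hw⟩
      have hmem : single 0 (n - 1) w ∈ Fil K 0 (n - 1) := single_mem 0 _ w le_rfl (by simp)
      have hZ : aug ε n (s : A.X n) - D f (single 0 (n - 1) w) ∈ Z f 1 n := by
        have h0 := sub_mem (show aug ε n (s : A.X n) ∈ Z f 0 n from
          ⟨aug_mem ε n _, D_aug ε hεf n _ s.2⟩) (D_mem_Z hff hmem)
        refine ⟨fun i j hij => ?_, h0.2⟩
        by_cases hij' : i = 0 ∧ j = n
        · obtain ⟨rfl, rfl⟩ := hij'
          rw [Pi.sub_apply, Pi.sub_apply, D_zero_apply, single_self, ← hw]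
          exact sub_eq_zero.2 (single_self 0 j _)
        · exact h0.1 i j (hij.elim (fun h => Or.inr (by omega)) Or.inr)
      refine (memG 1 _).2 ⟨⟨_, hZ⟩, hθ _ s ?_⟩
      change aug ε n (s : A.X n) - D f (single 0 (n - 1) w) - aug ε n (s : A.X n) ∈ B f n
      rw [sub_sub_cancel_left]
      exact neg_mem (AddSubgroup.mem_map_of_mem (D f) hmem)
  · intro p
    let c : Z f p n →+ E p (n - p) := (φ p (n - p)).comp
      (AddMonoidHom.mk' (fun x => (⟨(x : T K) p (n - p), comp_mem_S x.2⟩ : S f p (n - p)))
        (fun x y => rfl))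
    let r : Z f p n →+ ↥(G p) :=
      AddMonoidHom.mk' (fun x => ⟨θ (ι p x), (memG p _).2 ⟨x, rfl⟩⟩)
        (fun x y => Subtype.ext (by simp))
    let Kp : AddSubgroup (Z f p n) :=
      ((G (p + 1)).toAddSubgroup).comap (θ.comp (ι p))
    have hker : ∀ x, c x = 0 → x ∈ Kp := by
      intro x hx
      change θ (ι p x) ∈ G (p + 1)
      -- the correcting coboundary
      obtain ⟨y, hy, hzero⟩ : ∃ y, y ∈ Fil K 0 (n - 1) ∧
          (x : T K) - D f y ∈ Z f (p + 1) n := by
        cases p with
        | zero =>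
          obtain ⟨w, hw⟩ := hφ₀ _ _ hx
          have hmem : single 0 (n - 1) (show (K 0).X (n - 1) from
              ((K 0).XIsoOfEq (by simp : n - (0 : ℕ) - 1 = n - 1)).hom.hom w) ∈ Fil K 0 (n - 1) :=
            single_mem 0 _ _ le_rfl (by simp)
          refine ⟨_, hmem, ?_⟩
          have h0 := sub_mem x.2 (D_mem_Z hff hmem)
          refine ⟨fun i j hij => ?_, h0.2⟩
          by_cases hij' : i = 0 ∧ j = n
          · obtain ⟨rfl, rfl⟩ := hij'
            rw [Pi.sub_apply, Pi.sub_apply, D_zero_apply, single_self, sub_eq_zero]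
            have e : ∀ (q : ℤ) (hq : q = j) (w : (K 0).X (q - 1)),
                (x : T K) 0 q = dv K 0 (q - 1) q w → (x : T K) 0 j =
                  dv K 0 (j - 1) j (((K 0).XIsoOfEq (by omega : q - 1 = j - 1)).hom.hom w) := by
              rintro q rfl w h
              simpa using h
            exact e _ (by simp) w hw
          · exact h0.1 i j (hij.elim (fun h => Or.inr (by omega)) Or.inr)
        | succ p =>
          obtain ⟨q, hq, z, w, hz, hv⟩ : ∃ q : ℤ, q = n - ((p + 1 : ℕ) : ℤ) ∧ ∃ z w,
              dv K p q (q + 1) z = 0 ∧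
                (x : T K) (p + 1) q = dh f p q z + dv K (p + 1) (q - 1) q w :=
            ⟨_, rfl, hφ p _ _ hx⟩
          refine ⟨single p q z + (-1 : ℤ) ^ (p + 1) • single (p + 1) (q - 1) w,
            add_mem (single_mem p q z (Nat.zero_le _) (by omega))
              (zsmul_mem (single_mem (p + 1) (q - 1) w (Nat.zero_le _) (by omega)) _), ?_⟩
          have hmem : single p q z + (-1 : ℤ) ^ (p + 1) • single (p + 1) (q - 1) w ∈
              Fil K p (n - 1) :=
            add_mem (single_mem p q z le_rfl (by omega))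
              (zsmul_mem (single_mem (p + 1) (q - 1) w (Nat.le_succ _) (by omega)) _)
          have h0 : _ ∈ Z f p n :=
            sub_mem (show (x : T K) ∈ Z f p n from ⟨fil_antitone (Nat.le_succ _) n x.2.1, x.2.2⟩)
              (D_mem_Z hff hmem)
          refine ⟨fun i j hij => ?_, h0.2⟩
          rcases hij with hi | hj
          swap
          · exact h0.1 i j (Or.inr hj)
          by_cases hsum : (i : ℤ) + j = n
          swap
          · exact h0.1 i j (Or.inr hsum)
          rcases Nat.lt_or_ge i p with hip | hip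
          · exact h0.1 i j (Or.inl hip)
          obtain rfl | rfl : i = p ∨ i = p + 1 := by omega
          · rw [Pi.sub_apply, Pi.sub_apply, x.2.1 i j (Or.inl (by omega)), zero_sub, neg_eq_zero]
            obtain rfl : j = q + 1 := by omega
            have hval : ∀ m : ℤ, m = q → dv K i m (q + 1)
                ((single i q z + (-1 : ℤ) ^ (i + 1) • single (i + 1) (q - 1) w : T K) i m) = 0 := by
              rintro m rfl
              rw [Pi.add_apply, Pi.add_apply, Pi.smul_apply, Pi.smul_apply, single_self,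
                single_other (i + 1) _ w i _ (Or.inl (by omega)), smul_zero, add_zero]
              exact hz
            cases i with
            | zero => exact hval _ (by omega)
            | succ i =>
              rw [D_succ_apply, hmem i _ (Or.inl (by omega)), map_zero, zero_add,
                hval _ (by omega), smul_zero]
          · obtain rfl : q = j := by omega
            rw [Pi.sub_apply, Pi.sub_apply, sub_eq_zero, D_succ_apply]
            refine hv.trans ?_
            rw [Pi.add_apply,
              Pi.add_apply, Pi.smul_apply, Pi.smul_apply, single_self,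
              single_other (p + 1) _ w p q (Or.inl (by omega)), smul_zero, add_zero, Pi.add_apply,
              Pi.add_apply, Pi.smul_apply, Pi.smul_apply, single_self,
              single_other p q z (p + 1) (q - 1) (Or.inl (by omega)), zero_add, map_zsmul,
              smul_smul, ← mul_pow]
            simp
      refine (memG (p + 1) _).2 ⟨⟨_, hzero⟩, ?_⟩
      rw [← sub_eq_zero, ← map_sub, hθ0]
      have := neg_mem (AddSubgroup.mem_map_of_mem (D f) hy)
      simpa [ι] using this
    -- the subquotient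
    let S' : Submodule ℤ (E p (n - p)) := AddSubgroup.toIntSubmodule c.range
    let S₀ : Submodule ℤ (E p (n - p)) := AddSubgroup.toIntSubmodule (Kp.map c)
    refine ⟨S₀, S', fun v hv => by obtain ⟨x, -, rfl⟩ := hv; exact ⟨x, rfl⟩, ?_⟩
    let rE : Z f p n →+ ↥S' ⧸ Submodule.comap S'.subtype S₀ :=
      (Submodule.mkQ _).toAddMonoidHom.comp
        (AddMonoidHom.mk' (fun x => (⟨c x, x, rfl⟩ : ↥S')) (fun x y => Subtype.ext (map_add c x y)))
    let rG : Z f p n →+ HTor.grDesc G p := (Submodule.mkQ _).toAddMonoidHom.comp r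
    have hrE : Function.Surjective rE := by
      intro v
      obtain ⟨⟨v, x, rfl⟩, rfl⟩ := Submodule.mkQ_surjective _ v
      exact ⟨x, rfl⟩
    have hrG : Function.Surjective rG := by
      intro v
      obtain ⟨⟨v, hv⟩, rfl⟩ := Submodule.mkQ_surjective _ v
      obtain ⟨x, rfl⟩ := (memG p v).1 hv
      exact ⟨x, rfl⟩
    have k : rG.ker = rE.ker := by
      ext x
      simp only [AddMonoidHom.mem_ker]
      change Submodule.Quotient.mk (r x) = (0 : HTor.grDesc G p) ↔
        Submodule.Quotient.mk (p := Submodule.comap S'.subtype S₀) (⟨c x, x, rfl⟩ : ↥S') = 0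
      rw [Submodule.Quotient.mk_eq_zero, Submodule.Quotient.mk_eq_zero, Submodule.mem_comap,
        Submodule.mem_comap]
      change x ∈ Kp ↔ c x ∈ Kp.map c
      constructor
      · exact AddSubgroup.mem_map_of_mem c
      · rintro ⟨x', hx', he⟩
        have := add_mem hx' (hker (x - x') (by rw [map_sub, he, sub_self]))
        simpa using this
    let e : HTor.grDesc G p ≃+ (↥S' ⧸ Submodule.comap S'.subtype S₀) :=
      ((QuotientAddGroup.quotientKerEquivOfSurjective rG hrG).symm.trans
        (QuotientAddGroup.quotientAddEquivOfEq k)).trans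
        (QuotientAddGroup.quotientKerEquivOfSurjective rE hrE)
    exact ⟨e.toIntLinearEquiv⟩

end GrothLib.CechTot19
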